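import Groth.Agent.Lib.Lead.NatLeray.Step

/-!
# Čech cohomology computes cohomology of quasi-coherent modules, compatibly with endomorphisms
-/

set_option autoImplicit false

universe u

open CategoryTheory CategoryTheory.Limits Opposite TopologicalSpace Abelian AlgebraicGeometry

namespace Groth.Agent.Lib.Lead.NatLeray

open Groth.Agent.Lib.Helper22.Cech Groth.Agent.Lib.Helper22 Groth.Agent.Lib.Helper22.ExtCompare

section general

variable {C : Type*} [Category C] [Abelian C] [HasExt C]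

/-- Precomposition with an isomorphism, on `Ext`. -/
noncomputable def extPrecompEquiv {A A' : C} (i : A' ≅ A) (F : C) (p : ℕ) :
    Ext A F p ≃+ Ext A' F p where
  toFun x := (Ext.mk₀ i.hom).comp x (zero_add p)
  invFun y := (Ext.mk₀ i.inv).comp y (zero_add p)
  left_inv x := by
    change (Ext.mk₀ i.inv).comp ((Ext.mk₀ i.hom).comp x (zero_add p)) (zero_add p) = x
    rw [Ext.mk₀_comp_mk₀_assoc, i.inv_hom_id, Ext.mk₀_id_comp]
  right_inv y := by
    change (Ext.mk₀ i.hom).comp ((Ext.mk₀ i.inv).comp y (zero_add p)) (zero_add p) = y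
    rw [Ext.mk₀_comp_mk₀_assoc, i.hom_inv_id, Ext.mk₀_id_comp]
  map_add' x y := Ext.comp_add _ _ _ _

lemma extPrecompEquiv_nat {A A' : C} (i : A' ≅ A) {F G : C} (p : ℕ) (x : Ext A F p) (φ : F ⟶ G) :
    extPrecompEquiv i G p (x.comp (Ext.mk₀ φ) (add_zero p)) =
      (extPrecompEquiv i F p x).comp (Ext.mk₀ φ) (add_zero p) := by
  change (Ext.mk₀ i.hom).comp (x.comp (Ext.mk₀ φ) (add_zero p)) (zero_add p) =
    ((Ext.mk₀ i.hom).comp x (zero_add p)).comp (Ext.mk₀ φ) (add_zero p)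
  rw [Ext.comp_assoc_of_third_deg_zero]

end general

section top

variable (X : TopCat.{u})

/-- `ℤ_⊤` is the constant sheaf `ℤ`. -/
theorem nonempty_ZU_top_iso_constZ : Nonempty (CohTop.constZ X ≅ CohTop.ZU (⊤ : Opens X)) := by
  let D := deg0Top (X := X)
  let β' : Ext (CohTop.constZ X) (CohTop.ZU (⊤ : Opens X)) 0 :=
    D.e (CohTop.ZU (⊤ : Opens X)) (Ext.mk₀ (𝟙 _))
  let α' : Ext (CohTop.ZU (⊤ : Opens X)) (CohTop.constZ X) 0 :=
    (D.e (CohTop.constZ X)).symm (Ext.mk₀ (𝟙 _))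
  have hβ : Ext.mk₀ (Ext.homEquiv₀ β') = β' := Ext.mk₀_homEquiv₀_apply β'
  have hα : Ext.mk₀ (Ext.homEquiv₀ α') = α' := Ext.mk₀_homEquiv₀_apply α'
  have n1 : D.e (CohTop.constZ X) ((Ext.mk₀ (𝟙 (CohTop.ZU (⊤ : Opens X)))).comp α' (add_zero 0)) =
      β'.comp α' (add_zero 0) := by
    have h := D.nat (Ext.homEquiv₀ α') (Ext.mk₀ (𝟙 (CohTop.ZU (⊤ : Opens X))))
    simp only [Functor.id_map] at h
    rw [hα] at h
    exact h
  have n2 : D.e (CohTop.ZU (⊤ : Opens X)) (α'.comp β' (add_zero 0)) =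
      (D.e (CohTop.constZ X) α').comp β' (add_zero 0) := by
    have h := D.nat (Ext.homEquiv₀ β') α'
    simp only [Functor.id_map] at h
    rw [hβ] at h
    exact h
  have m1 : β'.comp α' (add_zero 0) = Ext.mk₀ (𝟙 _) := by
    rw [← n1, Ext.mk₀_id_comp]
    exact (D.e (CohTop.constZ X)).apply_symm_apply _
  have m2 : α'.comp β' (add_zero 0) = Ext.mk₀ (𝟙 _) := by
    apply (D.e (CohTop.ZU (⊤ : Opens X))).injective
    rw [n2]
    have : D.e (CohTop.constZ X) α' = Ext.mk₀ (𝟙 _) :=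
      (D.e (CohTop.constZ X)).apply_symm_apply _
    rw [this, Ext.mk₀_id_comp]
  refine ⟨⟨Ext.homEquiv₀ β', Ext.homEquiv₀ α', ?_, ?_⟩⟩
  · apply (Ext.mk₀_bijective _ _).1
    rw [← Ext.mk₀_comp_mk₀, hβ, hα]
    exact m1
  · apply (Ext.mk₀_bijective _ _).1
    rw [← Ext.mk₀_comp_mk₀, hβ, hα]
    exact m2

end top

section scheme

variable (X : Scheme.{u}) (M : X.Modules) [M.IsQuasicoherent]

/-- **Čech cohomology computes cohomology**, compatibly with all endomorphisms of the underlying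
abelian sheaf. -/
theorem exists_cechH_addEquiv_HH_natural {ι : Type u} (U : ι → X.Opens) (hcov : ⨆ i, U i = ⊤)
    (hU : ∀ s : Finset ι, s.Nonempty → IsAffineOpen (⨅ i ∈ s, U i)) (p : ℕ) :
    ∃ e : ↑(CohB1.cechH U M p) ≃+ Coh.HH X M p,
      ∀ (φ : Coh.toAb M ⟶ Coh.toAb M) (x : ↑(CohB1.cechH U M p)),
        e (HomologicalComplex.homologyMap ((cechComplexFunctor U).map φ.hom) p x) =
          Sheaf.H.map φ p (e x) := by
  classical
  have h : ∀ (p : ℕ) (a : Fin (p + 1) → ι) (q : ℕ),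
      Subsingleton (CohTop.HU (Coh.toAb M) (q + 1) (iInf fun k => U (a k))) := by
    intro p a q
    apply subsingleton_HU_succ_of_isAffineOpen
    have hs : (Finset.univ.image a).Nonempty := ⟨a 0, Finset.mem_image_of_mem a (Finset.mem_univ 0)⟩
    have he : (⨅ i ∈ Finset.univ.image a, U i) = iInf fun k => U (a k) := by
      apply le_antisymm
      · refine le_iInf fun k => ?_
        exact iInf₂_le (a k) (Finset.mem_image_of_mem a (Finset.mem_univ k))
      · refine le_iInf₂ fun i hi => ?_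
        obtain ⟨k, -, rfl⟩ := Finset.mem_image.mp hi
        exact iInf_le _ k
    rw [← he]
    exact hU _ hs
  have hF : LerayGood (X := X.carrier) U (Coh.toAb M) := by
    intro n σ q x
    have := h n σ q
    rw [← Uσ_eq_iInf] at this
    exact Subsingleton.elim (α := CohTop.HU (Coh.toAb M) (q + 1) (Uσ U σ)) x 0
  have key : ∃ θ : (CK U (Coh.toAb M).obj).homology p ≃+
      Ext (CohTop.ZU (X := X.carrier) (iSup U)) (Coh.toAb M) p,
      IsNat (X := X.carrier) U (Coh.toAb M) p θ := by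
    cases p with
    | zero => exact exists_nat_zero (X := X.carrier) U (Coh.toAb M)
    | succ p => exact exists_nat_succ (X := X.carrier) U p (Coh.toAb M) hF
  obtain ⟨θ, hθ⟩ := key
  obtain ⟨i₁⟩ := nonempty_ZU_top_iso_constZ X.carrier
  have hcov' : iSup U = ⊤ := hcov
  let i₂ : CohTop.ZU (⊤ : Opens X.carrier) ≅ CohTop.ZU (iSup U) :=
    eqToIso (congrArg CohTop.ZU hcov'.symm)
  let e' := extPrecompEquiv (i₁ ≪≫ i₂) (Coh.toAb M) p
  refine ⟨θ.trans e', ?_⟩
  intro φ x
  change e' (θ _) = _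
  have h1 := hθ φ x
  change θ (HomologicalComplex.homologyMap ((cechComplexFunctor U).map φ.hom) p x) = _ at h1
  rw [h1]
  exact extPrecompEquiv_nat (i₁ ≪≫ i₂) p (θ x) φ

end scheme

end Groth.Agent.Lib.Lead.NatLeray
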