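import Groth.Agent.Lib.Lead.NatLeray.Basic
import Groth.Agent.Lib.Lead.Pn.HomologyOfMap

/-!
# Leray's theorem compatibly with endomorphisms: the induction
-/

set_option autoImplicit false

universe u

open CategoryTheory CategoryTheory.Limits Opposite TopologicalSpace Abelian

namespace Groth.Agent.Lib.Lead.NatLeray

open Groth.Agent.Lib.Helper22.Cech Groth.Agent.Lib.Helper22 Groth.Agent.Lib.Helper22.ExtCompare

variable {X : TopCat.{u}} {ι : Type u} (U : ι → Opens X)

/-- The morphism of short complexes of Čech complexes induced by a morphism of short complexes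
of sheaves. -/
noncomputable def cechSCMap {S S' : ShortComplex (CohTop.Ab X)} (Φ : S ⟶ S')
    (w : S.f.hom ≫ S.g.hom = 0) (w' : S'.f.hom ≫ S'.g.hom = 0) :
    cechSC U S.f.hom S.g.hom w ⟶ cechSC U S'.f.hom S'.g.hom w' where
  τ₁ := (cechComplexFunctor U).map Φ.τ₁.hom
  τ₂ := (cechComplexFunctor U).map Φ.τ₂.hom
  τ₃ := (cechComplexFunctor U).map Φ.τ₃.hom
  comm₁₂ := by
    change (cechComplexFunctor U).map _ ≫ (cechComplexFunctor U).map _ =
      (cechComplexFunctor U).map _ ≫ (cechComplexFunctor U).map _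
    rw [← Functor.map_comp, ← Functor.map_comp]
    congr 1
    exact congrArg (fun φ => φ.hom) Φ.comm₁₂
  comm₂₃ := by
    change (cechComplexFunctor U).map _ ≫ (cechComplexFunctor U).map _ =
      (cechComplexFunctor U).map _ ≫ (cechComplexFunctor U).map _
    rw [← Functor.map_comp, ← Functor.map_comp]
    congr 1
    exact congrArg (fun φ => φ.hom) Φ.comm₂₃

/-- Naturality of the Čech connecting homomorphism. -/
lemma cech_δ_naturality {S : ShortComplex (CohTop.Ab X)} (Φ : S ⟶ S)
    (w : S.f.hom ≫ S.g.hom = 0) (hse : SecExact U S.f.hom S.g.hom) (i j : ℕ) (hij : i + 1 = j)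
    (z : (CK U S.X₃.obj).homology i) :
    cechMap U Φ.τ₁ j (((cechSC_shortExact w hse).δ i j hij) z) =
      ((cechSC_shortExact w hse).δ i j hij) (cechMap U Φ.τ₃ i z) := by
  have h := HomologicalComplex.HomologySequence.δ_naturality (cechSCMap U Φ w w)
    (cechSC_shortExact w hse) (cechSC_shortExact w hse) i j hij
  have h2 := ConcreteCategory.congr_hom h z
  rw [ConcreteCategory.comp_apply, ConcreteCategory.comp_apply] at h2
  exact h2

/-- Naturality of the `Ext` connecting homomorphism out of sections. -/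
lemma extδ_naturality {S : ShortComplex (CohTop.Ab X)} (hS : S.ShortExact) (Φ : S ⟶ S)
    (V : Opens X) (t : S.X₃.obj.obj (op V)) :
    extδ S hS V (Φ.τ₃.hom.app (op V) t) = (extδ S hS V t).comp (Ext.mk₀ Φ.τ₁) (add_zero 1) := by
  rw [extδ_apply, extδ_apply]
  have h1 : (CohTop.homEquivSections V S.X₃).symm (Φ.τ₃.hom.app (op V) t) =
      (CohTop.homEquivSections V S.X₃).symm t ≫ Φ.τ₃ := by
    apply (CohTop.homEquivSections V S.X₃).injective
    rw [Equiv.apply_symm_apply, CohTop.homEquivSections_naturality_right, Equiv.apply_symm_apply]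
  rw [h1, ← Ext.mk₀_comp_mk₀, Ext.comp_assoc_of_second_deg_zero,
    ← ShortComplex.ShortExact.extClass_naturality hS hS Φ, Ext.comp_assoc_of_third_deg_zero]

/-- Naturality of the `Ext` dimension shift. -/
lemma shiftEquiv_naturality {S : ShortComplex (CohTop.Ab X)} (hS : S.ShortExact) (Φ : S ⟶ S)
    (A : CohTop.Ab X) (n : ℕ) (h1 : ∀ x : Ext A S.X₂ (n + 1), x = 0)
    (h2 : ∀ x : Ext A S.X₂ (n + 2), x = 0) (y : Ext A S.X₃ (n + 1)) :
    shiftEquiv hS A n h1 h2 (y.comp (Ext.mk₀ Φ.τ₃) (add_zero (n + 1))) =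
      (shiftEquiv hS A n h1 h2 y).comp (Ext.mk₀ Φ.τ₁) (add_zero (n + 2)) := by
  change (y.comp (Ext.mk₀ Φ.τ₃) (add_zero (n + 1))).comp hS.extClass rfl =
    (y.comp hS.extClass rfl).comp (Ext.mk₀ Φ.τ₁) (add_zero (n + 2))
  rw [Ext.comp_assoc_of_second_deg_zero,
    ← ShortComplex.ShortExact.extClass_naturality hS hS Φ, Ext.comp_assoc_of_third_deg_zero]

/-- Degree one. -/
theorem exists_nat_one (F : CohTop.Ab X) (hF : LerayGood U F) :
    ∃ θ : (CK U F.obj).homology 1 ≃+ Ext (CohTop.ZU (iSup U)) F 1, IsNat U F 1 θ := by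
  have hS := CohTop.injSC_shortExact F
  have hse := hF.secExact
  have hI1 : IsZero ((CK U (CohTop.injSC F).X₂.obj).homology 1) :=
    isZero_homology_succ_of_injective U _ 0
  let a : (CohTop.injSC F).X₃.obj.obj (op (iSup U)) →+ (CK U F.obj).homology 1 :=
    (δ₀ (w_injSC F) hse).comp (toH0 U (CohTop.injSC F).X₃.obj).hom
  have ha : Function.Surjective a :=
    (δ₀_surjective _ hse hI1).comp (toH0_bijective U _).2
  have ha' : Function.Surjective (extδ (CohTop.injSC F) hS (iSup U)) :=
    extδ_surjective _ hS _ (fun x => Ext.eq_zero_of_injective x)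
  have hk : ∀ t, a t = 0 ↔ extδ (CohTop.injSC F) hS (iSup U) t = 0 := by
    intro t
    rw [extδ_eq_zero_iff]
    change δ₀ _ hse (toH0 U _ t) = 0 ↔ _
    rw [δ₀_eq_zero_iff]
    constructor
    · rintro ⟨y, hy⟩
      obtain ⟨s, rfl⟩ := (toH0_bijective U (CohTop.injSC F).X₂).2 y
      refine ⟨s, ?_⟩
      apply (toH0_bijective U (CohTop.injSC F).X₃).1
      rw [← hy]
      have := ConcreteCategory.congr_hom (toH0_naturality U _ (CohTop.injSC F).g.hom) s
      rw [ConcreteCategory.comp_apply, ConcreteCategory.comp_apply] at this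
      exact this.symm
    · rintro ⟨s, rfl⟩
      refine ⟨toH0 U _ s, ?_⟩
      have := ConcreteCategory.congr_hom (toH0_naturality U _ (CohTop.injSC F).g.hom) s
      rw [ConcreteCategory.comp_apply, ConcreteCategory.comp_apply] at this
      exact this
  obtain ⟨θ, hθ⟩ := Pn.exists_addEquiv_of_surjective_of_ker_eq a
    (extδ (CohTop.injSC F) hS (iSup U)) ha ha' hk
  refine ⟨θ, ?_⟩
  intro φ x
  obtain ⟨t, rfl⟩ := ha x
  let Φ := liftSC F φ
  have h1 : cechMap U φ 1 (a t) = a (Φ.τ₃.hom.app (op (iSup U)) t) := by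
    change cechMap U Φ.τ₁ 1 (((cechSC_shortExact (w_injSC F) hse).δ 0 1 rfl)
      (toH0 U (CohTop.injSC F).X₃.obj t)) = _
    rw [cech_δ_naturality U Φ (w_injSC F) hse 0 1 rfl]
    have := ConcreteCategory.congr_hom (toH0_naturality U _ Φ.τ₃.hom) t
    rw [ConcreteCategory.comp_apply, ConcreteCategory.comp_apply] at this
    change _ = ((cechSC_shortExact (w_injSC F) hse).δ 0 1 rfl)
      (toH0 U (CohTop.injSC F).X₃.obj (Φ.τ₃.hom.app (op (iSup U)) t))
    rw [← this]
  rw [h1, hθ, hθ]
  exact extδ_naturality hS Φ (iSup U) t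

/-- Higher degrees. -/
theorem exists_nat_succ (p : ℕ) :
    ∀ F : CohTop.Ab X, LerayGood U F →
      ∃ θ : (CK U F.obj).homology (p + 1) ≃+ Ext (CohTop.ZU (iSup U)) F (p + 1),
        IsNat U F (p + 1) θ := by
  induction p with
  | zero => exact fun F hF => exists_nat_one U F hF
  | succ p ih =>
    intro F hF
    have hS := CohTop.injSC_shortExact F
    have hse := hF.secExact
    have hz1 : IsZero ((CK U (CohTop.injSC F).X₂.obj).homology (p + 1)) :=
      isZero_homology_succ_of_injective U _ p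
    have hz2 : IsZero ((CK U (CohTop.injSC F).X₂.obj).homology (p + 2)) :=
      isZero_homology_succ_of_injective U _ (p + 1)
    let e1 : (CK U (CohTop.injSC F).X₃.obj).homology (p + 1) ≃+ (CK U F.obj).homology (p + 2) :=
      ((cechSC_shortExact (w_injSC F) hse).δIso (p + 1) (p + 2) rfl hz1
        hz2).addCommGroupIsoToAddEquiv
    have he1 : ∀ z, e1 z = ((cechSC_shortExact (w_injSC F) hse).δ (p + 1) (p + 2) rfl) z :=
      fun _ => rfl
    obtain ⟨θQ, hθQ⟩ := ih (CohTop.injSC F).X₃ hF.quot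
    let e3 := shiftEquiv hS (CohTop.ZU (iSup U)) p
      (fun y => Ext.eq_zero_of_injective y) (fun y => Ext.eq_zero_of_injective y)
    refine ⟨e1.symm.trans (θQ.trans e3), ?_⟩
    intro φ x
    obtain ⟨z, rfl⟩ := e1.surjective x
    let Φ := liftSC F φ
    have h1 : cechMap U φ (p + 2) (e1 z) = e1 (cechMap U Φ.τ₃ (p + 1) z) := by
      rw [he1, he1]
      exact cech_δ_naturality U Φ (w_injSC F) hse (p + 1) (p + 2) rfl z
    rw [h1]
    simp only [AddEquiv.trans_apply, AddEquiv.symm_apply_apply]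
    rw [hθQ Φ.τ₃ z]
    exact shiftEquiv_naturality hS Φ _ p _ _ (θQ z)

end Groth.Agent.Lib.Lead.NatLeray
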