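import Groth.Agent.Lib.Helper22.Cech.SchemeLeray

/-!
# Leray's theorem, compatibly with endomorphisms of the sheaf

The isomorphism between the Čech cohomology of an acyclic cover and sheaf cohomology can be chosen
compatible with all endomorphisms of the sheaf; in particular it is linear for any ring acting on
the sheaf.
-/

set_option autoImplicit false

universe u

open CategoryTheory CategoryTheory.Limits Opposite TopologicalSpace Abelian

namespace Groth.Agent.Lib.Lead.NatLeray

open Groth.Agent.Lib.Helper22.Cech Groth.Agent.Lib.Helper22 Groth.Agent.Lib.Helper22.ExtCompare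

variable {X : TopCat.{u}} {ι : Type u} (U : ι → Opens X)

/-- The map on Čech cohomology induced by a morphism of sheaves. -/
noncomputable abbrev cechMap {F G : CohTop.Ab X} (φ : F ⟶ G) (p : ℕ) :
    (CK U F.obj).homology p ⟶ (CK U G.obj).homology p :=
  HomologicalComplex.homologyMap ((cechComplexFunctor U).map φ.hom) p

/-- Compatibility of an identification of Čech cohomology with `Ext` with endomorphisms. -/
def IsNat (F : CohTop.Ab X) (p : ℕ)
    (θ : (CK U F.obj).homology p ≃+ Ext (CohTop.ZU (iSup U)) F p) : Prop :=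
  ∀ (φ : F ⟶ F) (x : (CK U F.obj).homology p),
    θ (cechMap U φ p x) = (θ x).comp (Ext.mk₀ φ) (add_zero p)

/-- A lift of an endomorphism to the injective-hull sequence. -/
noncomputable def liftSC (F : CohTop.Ab X) (φ : F ⟶ F) : CohTop.injSC F ⟶ CohTop.injSC F where
  τ₁ := φ
  τ₂ := Injective.factorThru (φ ≫ Injective.ι F) (Injective.ι F)
  τ₃ := cokernel.map _ _ φ (Injective.factorThru (φ ≫ Injective.ι F) (Injective.ι F))
    (by rw [Injective.comp_factorThru])
  comm₁₂ := by
    change φ ≫ Injective.ι F = Injective.ι F ≫ _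
    rw [Injective.comp_factorThru]
  comm₂₃ := by
    change _ ≫ cokernel.π _ = cokernel.π _ ≫ _
    rw [cokernel.π_desc]

@[simp] lemma liftSC_τ₁ (F : CohTop.Ab X) (φ : F ⟶ F) : (liftSC F φ).τ₁ = φ := rfl

/-- Degree zero. -/
theorem exists_nat_zero (F : CohTop.Ab X) :
    ∃ θ : (CK U F.obj).homology 0 ≃+ Ext (CohTop.ZU (iSup U)) F 0, IsNat U F 0 θ := by
  refine ⟨(AddEquiv.ofBijective (toH0 U F.obj).hom (toH0_bijective U F)).symm.trans
    ((CohTop.homAddEquivSections (iSup U) F).symm.trans Ext.addEquiv₀.symm), ?_⟩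
  intro φ x
  obtain ⟨s, rfl⟩ := (toH0_bijective U F).2 x
  have h1 : cechMap U φ 0 (toH0 U F.obj s) = toH0 U F.obj (φ.hom.app (op (iSup U)) s) := by
    have := ConcreteCategory.congr_hom (toH0_naturality U F.obj φ.hom) s
    rw [ConcreteCategory.comp_apply, ConcreteCategory.comp_apply] at this
    exact this
  rw [h1]
  have h2 : ∀ t : F.obj.obj (op (iSup U)),
      (AddEquiv.ofBijective (toH0 U F.obj).hom (toH0_bijective U F)).symm (toH0 U F.obj t) = t :=
    fun t => (AddEquiv.ofBijective (toH0 U F.obj).hom (toH0_bijective U F)).symm_apply_apply t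
  simp only [AddEquiv.trans_apply]
  rw [h2, h2]
  change Ext.mk₀ ((CohTop.homEquivSections (iSup U) F).symm (φ.hom.app (op (iSup U)) s)) =
    (Ext.mk₀ ((CohTop.homEquivSections (iSup U) F).symm s)).comp (Ext.mk₀ φ) (add_zero 0)
  rw [Ext.mk₀_comp_mk₀]
  congr 1
  apply (CohTop.homEquivSections (iSup U) F).injective
  rw [Equiv.apply_symm_apply, CohTop.homEquivSections_naturality_right, Equiv.apply_symm_apply]

end Groth.Agent.Lib.Lead.NatLeray
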